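import Mathlib
import Cfsg.Agent.Lib.helper7.CeB
import Cfsg.Agent.Lib.helper3.STC.Defs
import Cfsg.Agent.Lib.helper3.STC.Defs2
import Cfsg.Agent.Lib.helper3.STC.Defs3

/-!
# Project CEC (designer helper7; S2092): central extensions of `Sp_{2m}(F_q)` split — definitions

`σ : Γ →* G` is a central extension (`Cfsg.Agent.Lib.helper7.Ce.IsCE`) of a group `G` carrying a Steinberg system of
type `C` (`S : SysC K ι G`, helper3's `STC`).  `CL σ x y` (helper7 `CeA`): any two lifts of `x` and `y` commute.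
`lf h g` (helper7 `CeB`): a chosen lift of `g`.  `cm a b = a b a⁻¹ b⁻¹`, `cj g a = g a g⁻¹`.
Signed indices `a : ι ⊕ ι`, `ng`, `sg`, `ab` as in `STC.Defs`; `ab a ≠ ab b` says that `a ≠ b` and `a ≠ ng b`.
-/

set_option autoImplicit false

namespace Cfsg.Agent.Lib.helper7.CEC

open Cfsg.Agent.Lib.helper15.St2 Cfsg.Agent.Lib.helper7.Ce Cfsg.Agent.Lib.helper3.STC

section idx

variable (ι : Type*)

/-- at least two indices -/
def I2 : Prop := ∀ b : ι ⊕ ι, ∃ a : ι ⊕ ι, ab a ≠ ab b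

/-- at least three indices -/
def I3 : Prop := ∀ a b : ι ⊕ ι, ∃ e : ι ⊕ ι, ab e ≠ ab a ∧ ab e ≠ ab b

/-- at least four indices -/
def I4 : Prop := ∀ a b c : ι ⊕ ι, ∃ e : ι ⊕ ι, ab e ≠ ab a ∧ ab e ≠ ab b ∧ ab e ≠ ab c

/-- at most two indices -/
def U2 : Prop := ∀ a b e : ι ⊕ ι, ab a ≠ ab b → ab e = ab a ∨ ab e = ab b

/-- at most three indices -/
def U3 : Prop := ∀ a b e e' : ι ⊕ ι, ab a ≠ ab b → ab e ≠ ab a → ab e ≠ ab b → ab e' ≠ ab a →
  ab e' ≠ ab b → ab e = ab e'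

end idx

variable {K : Type*} [Field K] {ι : Type*} {Γ G : Type*} [Group Γ] [Group G]

/-- all pairs of root elements that commute by `SysC.comm` have commuting lifts -/
def HC (S : SysC K ι G) (σ : Γ →* G) : Prop :=
  ∀ a b c d : ι ⊕ ι, a ≠ b → c ≠ d → b ≠ c → a ≠ d → b ≠ ng d → a ≠ ng c → ∀ t u : K,
    CL σ (S.x a b t) (S.x c d u)

/-- the seven types of commuting pairs of roots: same short root, same long root, two short roots at `60°` (in a row, in a column),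
disjoint short roots, long and short at `45°`, long and short orthogonal, two long roots -/
structure HT (S : SysC K ι G) (σ : Γ →* G) : Prop where
  t1 : ∀ a b : ι ⊕ ι, ab a ≠ ab b → ∀ t u : K, CL σ (S.x a b t) (S.x a b u)
  t2 : ∀ a : ι ⊕ ι, ∀ t u : K, CL σ (S.x a (ng a) t) (S.x a (ng a) u)
  t3r : ∀ a b d : ι ⊕ ι, ab a ≠ ab b → ab a ≠ ab d → ab b ≠ ab d → ∀ t u : K, CL σ (S.x a b t) (S.x a d u)
  t3c : ∀ a b c : ι ⊕ ι, ab a ≠ ab b → ab c ≠ ab b → ab a ≠ ab c → ∀ t u : K, CL σ (S.x a b t) (S.x c b u)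
  t4 : ∀ a b c d : ι ⊕ ι, ab a ≠ ab b → ab c ≠ ab d → ab a ≠ ab c → ab a ≠ ab d → ab b ≠ ab c → ab b ≠ ab d →
    ∀ t u : K, CL σ (S.x a b t) (S.x c d u)
  t5 : ∀ a d : ι ⊕ ι, ab a ≠ ab d → ∀ t u : K, CL σ (S.x a (ng a) t) (S.x a d u)
  t6 : ∀ a c d : ι ⊕ ι, ab c ≠ ab d → ab a ≠ ab c → ab a ≠ ab d → ∀ t u : K, CL σ (S.x a (ng a) t) (S.x c d u)
  t7 : ∀ a c : ι ⊕ ι, ab a ≠ ab c → ∀ t u : K, CL σ (S.x a (ng a) t) (S.x c (ng c) u)

/-- the commutator of lifts of `x a c t` and `x c b u` (short, short, sum short): a lift of `x a b (t * u)` -/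
noncomputable def Ys (S : SysC K ι G) {σ : Γ →* G} (h : IsCE σ) (a c b : ι ⊕ ι) (t u : K) : Γ :=
  cm (lf h (S.x a c t)) (lf h (S.x c b u))

/-- the commutator of lifts of `x a (ng a) t` and `x (ng a) b u` (long, short): a lift of
`x a b (t * u) * x (ng b) b (sg a * sg b * t * u ^ 2)` -/
noncomputable def Zl (S : SysC K ι G) {σ : Γ →* G} (h : IsCE σ) (a b : ι ⊕ ι) (t u : K) : Γ :=
  cm (lf h (S.x a (ng a) t)) (lf h (S.x (ng a) b u))

/-- the relation `B` -/
def PB (S : SysC K ι G) {σ : Γ →* G} (h : IsCE σ) : Prop :=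
  ∀ a c b : ι ⊕ ι, ab a ≠ ab c → ab c ≠ ab b → ab a ≠ ab b → ∀ t u : K, Ys S h a c b t u = Ys S h a c b (t * u) 1

/-- independence of the middle index -/
def PI (S : SysC K ι G) {σ : Γ →* G} (h : IsCE σ) : Prop :=
  ∀ a c c' b : ι ⊕ ι, ab a ≠ ab c → ab c ≠ ab b → ab a ≠ ab c' → ab c' ≠ ab b → ab a ≠ ab b → ∀ t : K,
    Ys S h a c b t 1 = Ys S h a c' b t 1

open Classical in
/-- the lift of `x a b t` through a chosen third index -/
noncomputable def Xs (S : SysC K ι G) {σ : Γ →* G} (h : IsCE σ) (h3 : I3 ι) (a b : ι ⊕ ι) (t : K) : Γ :=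
  Ys S h a (Classical.choose (h3 a b)) b t 1

/-- canonical lifts of the short root elements: additive, compatible with the two names of a short root, equivariant under the
monomial elements (`IsMon`) whose permutation commutes with `ng`, and satisfying the relation short + short = short -/
structure ShortLift (S : SysC K ι G) {σ : Γ →* G} (h : IsCE σ) where
  X : ι ⊕ ι → ι ⊕ ι → K → Γ
  map : ∀ a b, ab a ≠ ab b → ∀ t, σ (X a b t) = S.x a b t
  add : ∀ a b, ab a ≠ ab b → ∀ t u, X a b (t + u) = X a b t * X a b u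
  sym : ∀ a b, ab a ≠ ab b → ∀ t, X a b t = X (ng b) (ng a) (-(sg a * sg b * t))
  eqv : ∀ (g : G) (π : Equiv.Perm (ι ⊕ ι)) (d : ι ⊕ ι → K), S.IsMon g π d → (∀ k, π (ng k) = ng (π k)) →
    ∀ e : Γ, σ e = g → ∀ a b, ab a ≠ ab b → ∀ t, cj e (X a b t) = X (π a) (π b) (d a * (d b)⁻¹ * t)
  c3 : ∀ a c b, ab a ≠ ab c → ab c ≠ ab b → ab a ≠ ab b → ∀ t u, cm (X a c t) (X c b u) = X a b (t * u)

variable {S : SysC K ι G} {σ : Γ →* G} {h : IsCE σ}

/-- a lift of the long root element `x (ng b) b (sg a * sg b * t * u ^ 2)` -/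
noncomputable def Dl (L : ShortLift S h) (a b : ι ⊕ ι) (t u : K) : Γ :=
  (L.X a b (t * u))⁻¹ * Zl S h a b t u

open Classical in
/-- the canonical lift of the long root element `x (ng b) b s`, through a chosen auxiliary index -/
noncomputable def Xl (L : ShortLift S h) (h2 : I2 ι) (b : ι ⊕ ι) (s : K) : Γ :=
  Dl L (Classical.choose (h2 b)) b (sg (Classical.choose (h2 b)) * sg b * s) 1

open Classical in
/-- all the canonical lifts -/
noncomputable def xF (L : ShortLift S h) (h2 : I2 ι) (a b : ι ⊕ ι) (t : K) : Γ :=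
  if a = b then 1 else if b = ng a then Xl L h2 b t else L.X a b t

/-- the torus lift of a short root element (used when there are only two indices) -/
noncomputable def Xt (S : SysC K ι G) {σ : Γ →* G} (h : IsCE σ) (c₁ : K) (a b : ι ⊕ ι) (t : K) : Γ :=
  cm (lf h (S.h a b c₁)) (lf h (S.x a b ((c₁ ^ 2 - 1)⁻¹ * t)))

end Cfsg.Agent.Lib.helper7.CEC
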