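import Mathlib
import Cfsg.Agent.Lib.helper7.CEC.Defs

/-!
# Project CEC (designer helper7; S2092), block Z: the case `m = 2`, `q = 3` — definitions

For `K = F_3` there is no torus element to define the short root lifts with (`c₁ ^ 2 ≠ 1` is impossible).  Instead, from the relation `ls`
(`cm (x a (ng a) t) (x (ng a) b u) = x a b (t u) * x (ng b) b (sg a sg b t u²)`) at `u = 1` and `u = -1`:
`Zl a b (-t) 1 * Zl a b t (-1)` is a lift of `x a b (-2 t) = x a b t`.
-/

set_option autoImplicit false

namespace Cfsg.Agent.Lib.helper7.CEC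

open Cfsg.Agent.Lib.helper15.St2 Cfsg.Agent.Lib.helper7.Ce Cfsg.Agent.Lib.helper3.STC

variable {K : Type*} [Field K] {ι : Type*} {Γ G : Type*} [Group Γ] [Group G]

/-- `q = 3`: a lift of `x a b t` (`-2 = 1`), through the long root `(a, ng a)` -/
noncomputable def W3 (S : SysC K ι G) {σ : Γ →* G} (h : IsCE σ) (a b : ι ⊕ ι) (t : K) : Γ :=
  Zl S h a b (-t) 1 * Zl S h a b t (-1)

/-- `q = 3`: the lift of `x a b t`, symmetric in the two names `(a, b)`, `(ng b, ng a)` of the short root by construction -/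
noncomputable def X3 (S : SysC K ι G) {σ : Γ →* G} (h : IsCE σ) (a b : ι ⊕ ι) (t : K) : Γ :=
  W3 S h a b (-t) * W3 S h (ng b) (ng a) (sg a * sg b * t)

end Cfsg.Agent.Lib.helper7.CEC
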